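/-
Sylow 2-subgroups of `PSp₄(3)` and `O₆⁻(2)` inside symmetric groups of degree 8: data. A permutation is the
list of its values.
-/
import Mathlib

set_option autoImplicit false
set_option maxRecDepth 20000

namespace CfsgLib.SylowEight

/-- A Sylow 2-subgroup of `Sp₄(3)` with images in `A₈`. -/
def spData : List (List ℕ × List ℕ) :=
  [([1, 0, 0, 0, 0, 1, 0, 0, 0, 0, 1, 0, 0, 0, 0, 1], [0, 1, 2, 3, 4, 5, 6, 7]), ([1, 1, 0, 1, 1, 2, 2, 0, 0, 1, 1, 1, 2, 0, 1, 2], [7, 1, 2, 6, 4, 5, 3, 0]),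
   ([2, 1, 1, 2, 0, 2, 0, 1, 1, 0, 1, 0, 1, 1, 1, 1], [2, 0, 6, 4, 7, 3, 1, 5]), ([1, 2, 2, 0, 2, 2, 0, 2, 2, 0, 1, 2, 0, 2, 2, 2], [7, 5, 2, 6, 4, 1, 0, 3]),
   ([1, 2, 2, 1, 1, 1, 2, 2, 1, 2, 1, 2, 1, 1, 1, 1], [5, 0, 6, 1, 7, 3, 4, 2]), ([0, 1, 0, 0, 2, 0, 0, 0, 0, 0, 0, 1, 0, 0, 2, 0], [3, 5, 2, 0, 4, 1, 6, 7]),
   ([0, 1, 2, 1, 1, 2, 0, 1, 2, 0, 2, 2, 1, 1, 2, 0], [2, 7, 3, 4, 0, 6, 1, 5]), ([1, 0, 2, 1, 1, 2, 1, 0, 0, 1, 2, 2, 1, 1, 0, 1], [6, 2, 1, 7, 5, 4, 0, 3]),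
   ([1, 2, 0, 1, 0, 2, 1, 2, 1, 1, 2, 0, 1, 0, 1, 1], [2, 7, 0, 4, 3, 6, 5, 1]), ([0, 0, 1, 1, 0, 0, 1, 2, 1, 1, 0, 0, 1, 2, 0, 0], [0, 5, 2, 3, 4, 1, 7, 6]),
   ([0, 1, 0, 2, 1, 0, 2, 0, 0, 2, 0, 2, 2, 0, 2, 0], [5, 3, 6, 1, 7, 0, 2, 4]), ([0, 0, 1, 2, 0, 0, 2, 2, 1, 2, 0, 0, 2, 2, 0, 0], [3, 1, 2, 0, 4, 5, 7, 6]),
   ([0, 1, 2, 1, 2, 2, 2, 0, 0, 1, 1, 2, 2, 2, 1, 0], [5, 7, 3, 1, 0, 6, 4, 2]), ([0, 0, 0, 2, 0, 0, 2, 2, 2, 1, 0, 0, 1, 0, 0, 0], [3, 2, 1, 0, 5, 4, 7, 6]),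
   ([2, 2, 2, 0, 0, 2, 1, 2, 2, 2, 1, 0, 0, 2, 2, 1], [1, 7, 0, 5, 3, 6, 4, 2]), ([2, 1, 2, 0, 1, 1, 0, 2, 2, 0, 2, 1, 0, 2, 1, 1], [6, 5, 2, 7, 4, 1, 3, 0]),
   ([2, 2, 1, 1, 1, 0, 2, 0, 0, 1, 0, 1, 2, 1, 2, 1], [4, 3, 6, 2, 7, 0, 1, 5]), ([1, 1, 0, 2, 1, 2, 1, 0, 0, 2, 1, 1, 1, 0, 1, 2], [6, 1, 2, 7, 4, 5, 0, 3]),
   ([2, 0, 1, 2, 0, 2, 2, 2, 2, 1, 1, 0, 1, 1, 0, 1], [6, 5, 4, 7, 2, 1, 0, 3]), ([0, 2, 0, 1, 1, 2, 2, 1, 1, 1, 1, 1, 2, 0, 2, 0], [2, 3, 6, 4, 7, 0, 5, 1]),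
   ([2, 2, 1, 0, 0, 2, 2, 1, 1, 1, 1, 0, 0, 1, 2, 1], [1, 6, 0, 5, 3, 7, 2, 4]), ([0, 0, 2, 2, 0, 0, 0, 1, 1, 0, 0, 0, 1, 2, 0, 0], [0, 2, 5, 3, 1, 4, 7, 6]),
   ([2, 1, 2, 1, 0, 2, 0, 2, 2, 0, 1, 0, 2, 2, 1, 1], [2, 0, 7, 4, 6, 3, 5, 1]), ([0, 2, 0, 2, 1, 2, 1, 2, 2, 2, 1, 1, 1, 0, 2, 0], [2, 3, 7, 4, 6, 0, 1, 5]),
   ([2, 2, 0, 2, 2, 1, 1, 0, 0, 2, 2, 2, 1, 0, 2, 1], [7, 1, 2, 6, 4, 5, 3, 0]), ([0, 1, 1, 2, 2, 2, 1, 0, 0, 2, 1, 2, 1, 1, 1, 0], [5, 6, 3, 1, 0, 7, 2, 4]),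
   ([2, 1, 0, 0, 1, 0, 0, 0, 0, 0, 0, 1, 0, 0, 1, 1], [3, 4, 1, 0, 5, 2, 6, 7]), ([2, 2, 0, 1, 2, 1, 2, 0, 0, 1, 2, 2, 2, 0, 2, 1], [6, 1, 2, 7, 4, 5, 0, 3]),
   ([2, 0, 1, 0, 2, 2, 1, 1, 1, 2, 1, 2, 0, 1, 0, 1], [4, 0, 6, 2, 7, 3, 5, 1]), ([0, 0, 0, 1, 0, 0, 2, 0, 0, 2, 0, 0, 1, 0, 0, 0], [3, 5, 4, 0, 2, 1, 7, 6]),
   ([1, 1, 2, 2, 2, 1, 1, 2, 1, 1, 1, 1, 2, 1, 2, 1], [1, 3, 6, 5, 7, 0, 4, 2]), ([1, 1, 2, 0, 1, 0, 1, 1, 2, 1, 0, 2, 0, 1, 2, 1], [4, 6, 0, 2, 3, 7, 5, 1]),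
   ([1, 2, 1, 0, 2, 0, 1, 2, 1, 1, 0, 1, 0, 2, 1, 1], [6, 2, 5, 7, 1, 4, 3, 0]), ([2, 0, 2, 0, 0, 1, 0, 1, 2, 0, 1, 0, 0, 1, 0, 2], [1, 0, 7, 5, 6, 3, 4, 2]),
   ([0, 1, 0, 1, 1, 0, 1, 0, 0, 1, 0, 2, 1, 0, 2, 0], [5, 3, 7, 1, 6, 0, 4, 2]), ([2, 0, 0, 0, 0, 2, 0, 0, 0, 0, 2, 0, 0, 0, 0, 2], [0, 1, 2, 3, 4, 5, 6, 7]),
   ([2, 0, 2, 2, 1, 1, 2, 0, 0, 2, 1, 2, 2, 1, 0, 2], [4, 6, 3, 2, 0, 7, 1, 5]), ([0, 1, 2, 2, 1, 1, 0, 1, 2, 0, 1, 2, 2, 1, 2, 0], [7, 4, 1, 6, 5, 2, 0, 3]),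
   ([0, 0, 2, 1, 0, 0, 1, 1, 2, 1, 0, 0, 1, 1, 0, 0], [3, 1, 2, 0, 4, 5, 7, 6]), ([2, 0, 1, 0, 0, 1, 0, 2, 1, 0, 1, 0, 0, 2, 0, 2], [1, 0, 6, 5, 7, 3, 2, 4]),
   ([0, 0, 0, 2, 0, 0, 1, 0, 0, 1, 0, 0, 2, 0, 0, 0], [3, 5, 4, 0, 2, 1, 7, 6]), ([2, 2, 2, 2, 1, 2, 1, 2, 1, 1, 2, 2, 2, 1, 1, 2], [1, 3, 7, 5, 6, 0, 2, 4]),
   ([0, 0, 1, 0, 0, 0, 0, 1, 2, 0, 0, 0, 0, 2, 0, 0], [0, 1, 4, 3, 2, 5, 7, 6]), ([0, 1, 1, 2, 1, 2, 0, 2, 1, 0, 2, 2, 2, 2, 2, 0], [2, 6, 3, 4, 0, 7, 5, 1]),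
   ([0, 1, 1, 1, 1, 1, 0, 2, 1, 0, 1, 2, 1, 2, 2, 0], [6, 4, 1, 7, 5, 2, 3, 0]), ([1, 2, 0, 2, 0, 2, 2, 1, 2, 2, 2, 0, 2, 0, 1, 1], [2, 6, 0, 4, 3, 7, 1, 5]),
   ([1, 2, 1, 2, 1, 1, 1, 1, 2, 1, 1, 2, 2, 2, 1, 1], [5, 0, 7, 1, 6, 3, 2, 4]), ([1, 2, 2, 0, 2, 0, 2, 1, 2, 2, 0, 1, 0, 1, 1, 1], [7, 2, 5, 6, 1, 4, 0, 3]),
   ([2, 0, 2, 1, 2, 1, 1, 0, 0, 1, 1, 1, 1, 1, 0, 2], [7, 2, 1, 6, 5, 4, 3, 0]), ([0, 2, 1, 2, 2, 1, 0, 2, 1, 0, 1, 1, 2, 2, 1, 0], [2, 7, 3, 4, 0, 6, 1, 5]),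
   ([2, 1, 0, 1, 0, 1, 1, 2, 1, 1, 1, 0, 1, 0, 2, 2], [2, 6, 0, 4, 3, 7, 1, 5]), ([2, 2, 0, 1, 0, 1, 1, 1, 2, 1, 1, 0, 1, 0, 1, 2], [6, 4, 5, 7, 1, 2, 0, 3]),
   ([2, 1, 1, 2, 2, 2, 1, 1, 2, 1, 2, 1, 2, 2, 2, 2], [5, 0, 6, 1, 7, 3, 4, 2]), ([0, 2, 0, 0, 1, 0, 0, 0, 0, 0, 0, 2, 0, 0, 1, 0], [3, 5, 2, 0, 4, 1, 6, 7]),
   ([1, 2, 0, 0, 2, 2, 0, 0, 0, 0, 2, 1, 0, 0, 1, 1], [3, 1, 4, 0, 2, 5, 6, 7]), ([1, 0, 2, 0, 0, 2, 0, 1, 2, 0, 2, 0, 0, 1, 0, 1], [1, 0, 6, 5, 7, 3, 2, 4]),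
   ([2, 2, 2, 0, 2, 0, 1, 1, 2, 1, 0, 1, 0, 1, 1, 2], [4, 7, 0, 2, 3, 6, 1, 5]), ([1, 1, 0, 2, 0, 2, 2, 2, 1, 2, 2, 0, 2, 0, 2, 1], [6, 4, 5, 7, 1, 2, 0, 3]),
   ([0, 0, 2, 2, 0, 0, 2, 1, 2, 2, 0, 0, 2, 1, 0, 0], [0, 5, 2, 3, 4, 1, 7, 6]), ([1, 0, 2, 2, 2, 2, 2, 0, 0, 2, 2, 1, 2, 1, 0, 1], [4, 7, 3, 2, 0, 6, 5, 1]),
   ([1, 0, 1, 2, 1, 2, 2, 0, 0, 2, 2, 2, 2, 2, 0, 1], [7, 2, 1, 6, 5, 4, 3, 0]), ([1, 0, 2, 1, 0, 1, 1, 1, 1, 2, 2, 0, 2, 2, 0, 2], [6, 5, 4, 7, 2, 1, 0, 3]),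
   ([2, 2, 2, 2, 1, 0, 1, 0, 0, 2, 0, 1, 1, 2, 2, 1], [4, 3, 7, 2, 6, 0, 5, 1]), ([0, 1, 1, 1, 2, 0, 1, 2, 2, 2, 0, 2, 2, 1, 1, 0], [6, 1, 4, 7, 2, 5, 3, 0]),
   ([2, 0, 2, 2, 1, 2, 0, 2, 2, 0, 1, 1, 1, 2, 0, 1], [1, 6, 3, 5, 0, 7, 4, 2]), ([0, 0, 1, 0, 0, 0, 1, 2, 2, 2, 0, 0, 0, 1, 0, 0], [0, 4, 1, 3, 5, 2, 7, 6]),
   ([1, 2, 0, 2, 1, 0, 1, 1, 1, 2, 0, 1, 1, 0, 2, 2], [5, 6, 0, 1, 3, 7, 4, 2]), ([1, 0, 1, 0, 1, 1, 1, 1, 1, 2, 2, 1, 0, 1, 0, 2], [4, 0, 7, 2, 6, 3, 1, 5]),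
   ([0, 1, 0, 0, 1, 1, 0, 0, 0, 0, 2, 1, 0, 0, 1, 0], [3, 2, 5, 0, 1, 4, 6, 7]), ([1, 1, 0, 0, 0, 2, 0, 0, 0, 0, 1, 0, 0, 0, 1, 2], [0, 2, 1, 3, 5, 4, 6, 7]),
   ([0, 2, 1, 2, 1, 1, 1, 0, 0, 2, 2, 1, 1, 1, 2, 0], [5, 7, 3, 1, 0, 6, 4, 2]), ([2, 1, 0, 1, 2, 0, 2, 2, 2, 1, 0, 2, 2, 0, 1, 1], [5, 6, 0, 1, 3, 7, 4, 2]),
   ([0, 0, 2, 1, 0, 0, 1, 0, 0, 2, 0, 0, 2, 2, 0, 0], [3, 4, 5, 0, 1, 2, 7, 6]), ([1, 2, 2, 1, 0, 1, 0, 2, 2, 0, 2, 0, 2, 2, 2, 2], [2, 0, 6, 4, 7, 3, 1, 5]),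
   ([2, 1, 1, 0, 1, 1, 0, 1, 1, 0, 2, 1, 0, 1, 1, 1], [7, 5, 2, 6, 4, 1, 0, 3]), ([0, 2, 1, 1, 1, 0, 1, 2, 2, 2, 0, 1, 2, 1, 2, 0], [7, 1, 4, 6, 2, 5, 0, 3]),
   ([1, 0, 2, 0, 1, 1, 2, 2, 2, 1, 2, 1, 0, 2, 0, 2], [4, 0, 6, 2, 7, 3, 5, 1]), ([1, 2, 0, 1, 1, 0, 2, 2, 2, 1, 0, 1, 2, 0, 2, 2], [5, 7, 0, 1, 3, 6, 2, 4]),
   ([0, 0, 1, 2, 0, 0, 2, 0, 0, 1, 0, 0, 1, 1, 0, 0], [3, 4, 5, 0, 1, 2, 7, 6]), ([1, 2, 1, 0, 2, 2, 0, 1, 1, 0, 1, 2, 0, 1, 2, 2], [6, 5, 2, 7, 4, 1, 3, 0]),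
   ([2, 0, 1, 1, 1, 2, 0, 1, 1, 0, 1, 1, 2, 1, 0, 1], [1, 7, 3, 5, 0, 6, 2, 4]), ([2, 2, 0, 0, 0, 1, 0, 0, 0, 0, 2, 0, 0, 0, 2, 1], [0, 2, 1, 3, 5, 4, 6, 7]),
   ([1, 1, 1, 1, 2, 0, 2, 0, 0, 1, 0, 2, 2, 1, 1, 2], [4, 3, 7, 2, 6, 0, 5, 1]), ([0, 2, 2, 2, 1, 0, 2, 1, 1, 1, 0, 1, 1, 2, 2, 0], [6, 1, 4, 7, 2, 5, 3, 0]),
   ([1, 0, 0, 0, 1, 2, 0, 0, 0, 0, 1, 1, 0, 0, 0, 2], [0, 4, 5, 3, 1, 2, 6, 7]), ([0, 2, 2, 1, 1, 1, 2, 0, 0, 1, 2, 1, 2, 2, 2, 0], [5, 6, 3, 1, 0, 7, 2, 4]),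
   ([1, 0, 1, 2, 0, 1, 2, 2, 2, 1, 2, 0, 1, 1, 0, 2], [7, 5, 4, 6, 2, 1, 3, 0]), ([1, 1, 1, 0, 0, 1, 2, 1, 1, 1, 2, 0, 0, 1, 1, 2], [1, 7, 0, 5, 3, 6, 4, 2]),
   ([0, 1, 0, 1, 2, 1, 2, 1, 1, 1, 2, 2, 2, 0, 1, 0], [2, 3, 7, 4, 6, 0, 1, 5]), ([1, 0, 2, 2, 2, 1, 0, 2, 2, 0, 2, 2, 1, 2, 0, 2], [1, 7, 3, 5, 0, 6, 2, 4]),
   ([0, 0, 0, 1, 0, 0, 1, 1, 1, 2, 0, 0, 2, 0, 0, 0], [3, 2, 1, 0, 5, 4, 7, 6]), ([0, 1, 0, 2, 2, 1, 1, 2, 2, 2, 2, 2, 1, 0, 1, 0], [2, 3, 6, 4, 7, 0, 5, 1]),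
   ([1, 2, 1, 2, 0, 1, 0, 1, 1, 0, 2, 0, 1, 1, 2, 2], [2, 0, 7, 4, 6, 3, 5, 1]), ([1, 1, 2, 2, 2, 0, 1, 0, 0, 2, 0, 2, 1, 2, 1, 2], [4, 3, 6, 2, 7, 0, 1, 5]),
   ([2, 1, 0, 2, 2, 0, 1, 1, 1, 2, 0, 2, 1, 0, 1, 1], [5, 7, 0, 1, 3, 6, 2, 4]), ([0, 0, 2, 0, 0, 0, 2, 1, 1, 1, 0, 0, 0, 2, 0, 0], [0, 4, 1, 3, 5, 2, 7, 6]),
   ([2, 0, 2, 1, 0, 2, 1, 1, 1, 2, 1, 0, 2, 2, 0, 1], [7, 5, 4, 6, 2, 1, 3, 0]), ([0, 2, 0, 0, 2, 2, 0, 0, 0, 0, 1, 2, 0, 0, 2, 0], [3, 2, 5, 0, 1, 4, 6, 7]),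
   ([1, 1, 1, 1, 2, 1, 2, 1, 2, 2, 1, 1, 1, 2, 2, 1], [1, 3, 7, 5, 6, 0, 2, 4]), ([0, 0, 2, 0, 0, 0, 0, 2, 1, 0, 0, 0, 0, 1, 0, 0], [0, 1, 4, 3, 2, 5, 7, 6]),
   ([1, 1, 0, 1, 0, 2, 1, 1, 2, 1, 2, 0, 1, 0, 2, 1], [7, 4, 5, 6, 1, 2, 3, 0]), ([1, 0, 1, 1, 2, 2, 1, 0, 0, 1, 2, 1, 1, 2, 0, 1], [4, 6, 3, 2, 0, 7, 1, 5]),
   ([2, 2, 0, 0, 2, 1, 0, 0, 0, 0, 1, 1, 0, 0, 1, 2], [0, 5, 4, 3, 2, 1, 6, 7]), ([2, 1, 0, 2, 0, 1, 2, 1, 2, 2, 1, 0, 2, 0, 2, 2], [2, 7, 0, 4, 3, 6, 5, 1]),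
   ([0, 2, 0, 2, 2, 0, 2, 0, 0, 2, 0, 1, 2, 0, 1, 0], [5, 3, 7, 1, 6, 0, 4, 2]), ([2, 0, 1, 1, 1, 1, 1, 0, 0, 1, 1, 2, 1, 2, 0, 2], [4, 7, 3, 2, 0, 6, 5, 1]),
   ([2, 0, 1, 2, 2, 1, 2, 0, 0, 2, 1, 1, 2, 2, 0, 2], [6, 2, 1, 7, 5, 4, 0, 3]), ([2, 2, 1, 1, 1, 2, 2, 1, 2, 2, 2, 2, 1, 2, 1, 2], [1, 3, 6, 5, 7, 0, 4, 2]),
   ([1, 0, 1, 0, 0, 2, 0, 2, 1, 0, 2, 0, 0, 2, 0, 1], [1, 0, 7, 5, 6, 3, 4, 2]), ([0, 2, 0, 1, 2, 0, 1, 0, 0, 1, 0, 1, 1, 0, 1, 0], [5, 3, 6, 1, 7, 0, 2, 4]),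
   ([1, 1, 1, 0, 1, 0, 2, 2, 1, 2, 0, 2, 0, 2, 2, 1], [4, 7, 0, 2, 3, 6, 1, 5]), ([0, 2, 2, 2, 2, 2, 0, 1, 2, 0, 2, 1, 2, 1, 1, 0], [6, 4, 1, 7, 5, 2, 3, 0]),
   ([1, 1, 0, 0, 1, 2, 0, 0, 0, 0, 2, 2, 0, 0, 2, 1], [0, 5, 4, 3, 2, 1, 6, 7]), ([2, 1, 1, 0, 1, 0, 1, 2, 1, 1, 0, 2, 0, 2, 2, 2], [7, 2, 5, 6, 1, 4, 0, 3]),
   ([2, 2, 1, 0, 2, 0, 2, 2, 1, 2, 0, 1, 0, 2, 1, 2], [4, 6, 0, 2, 3, 7, 5, 1]), ([2, 2, 0, 2, 0, 1, 2, 2, 1, 2, 1, 0, 2, 0, 1, 2], [7, 4, 5, 6, 1, 2, 3, 0]),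
   ([2, 1, 0, 0, 1, 1, 0, 0, 0, 0, 1, 2, 0, 0, 2, 2], [3, 1, 4, 0, 2, 5, 6, 7]), ([0, 2, 2, 1, 2, 1, 0, 1, 2, 0, 1, 1, 1, 1, 1, 0], [2, 6, 3, 4, 0, 7, 5, 1]),
   ([2, 1, 2, 0, 1, 0, 2, 1, 2, 2, 0, 2, 0, 1, 2, 2], [6, 2, 5, 7, 1, 4, 3, 0]), ([0, 2, 1, 1, 2, 2, 0, 2, 1, 0, 2, 1, 1, 2, 1, 0], [7, 4, 1, 6, 5, 2, 0, 3]),
   ([2, 1, 2, 1, 2, 2, 2, 2, 1, 2, 2, 1, 1, 1, 2, 2], [5, 0, 7, 1, 6, 3, 2, 4]), ([1, 1, 2, 0, 0, 1, 1, 2, 2, 2, 2, 0, 0, 2, 1, 2], [1, 6, 0, 5, 3, 7, 2, 4]),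
   ([2, 0, 0, 0, 2, 1, 0, 0, 0, 0, 2, 2, 0, 0, 0, 1], [0, 4, 5, 3, 1, 2, 6, 7]), ([0, 1, 2, 2, 2, 0, 2, 1, 1, 1, 0, 2, 1, 2, 1, 0], [7, 1, 4, 6, 2, 5, 0, 3]),
   ([1, 0, 1, 1, 2, 1, 0, 1, 1, 0, 2, 2, 2, 1, 0, 2], [1, 6, 3, 5, 0, 7, 4, 2]), ([0, 0, 1, 1, 0, 0, 0, 2, 2, 0, 0, 0, 2, 1, 0, 0], [0, 2, 5, 3, 1, 4, 7, 6]),
   ([1, 2, 0, 0, 2, 0, 0, 0, 0, 0, 0, 2, 0, 0, 2, 2], [3, 4, 1, 0, 5, 2, 6, 7]), ([2, 0, 2, 0, 2, 2, 2, 2, 2, 1, 1, 2, 0, 2, 0, 1], [4, 0, 7, 2, 6, 3, 1, 5])]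

def spGens : List ℕ := [1, 2, 3]

def spParent : List (ℕ × ℕ) :=
  [(0, 0), (0, 0), (1, 0), (2, 0), (1, 1), (2, 1), (0, 2), (1, 2), (2, 2), (0, 3), (1, 3), (2, 3),
   (0, 4), (1, 4), (2, 4), (0, 5), (1, 5), (2, 5), (1, 6), (2, 6), (1, 7), (2, 7), (0, 8), (2, 8),
   (2, 9), (0, 10), (1, 10), (0, 11), (1, 11), (1, 12), (2, 12), (1, 13), (2, 13), (0, 14), (2, 14), (2, 15),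
   (0, 16), (1, 16), (0, 17), (1, 17), (0, 18), (1, 18), (2, 18), (0, 19), (1, 19), (2, 19), (2, 20), (0, 21),
   (2, 21), (2, 22), (0, 23), (1, 23), (1, 24), (2, 24), (1, 25), (2, 25), (1, 26), (2, 26), (2, 27), (0, 28),
   (1, 28), (0, 29), (1, 29), (2, 29), (0, 30), (1, 30), (2, 30), (2, 31), (0, 32), (2, 32), (2, 33), (0, 34),
   (1, 34), (1, 35), (2, 35), (1, 36), (2, 36), (1, 37), (2, 37), (2, 38), (0, 39), (1, 39), (1, 40), (2, 40),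
   (1, 41), (2, 41), (2, 42), (1, 44), (0, 45), (2, 46), (2, 47), (2, 49), (2, 50), (1, 53), (2, 55), (2, 57),
   (1, 59), (2, 60), (1, 61), (2, 61), (1, 62), (2, 62), (2, 63), (1, 65), (0, 66), (2, 67), (2, 68), (2, 70),
   (2, 71), (1, 74), (2, 76), (2, 78), (1, 80), (2, 81), (0, 82), (1, 82), (0, 83), (2, 88), (2, 90), (1, 93),
   (0, 94), (0, 98), (1, 98), (0, 99), (2, 104), (2, 106), (1, 109), (0, 110)]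

def spStep : List (List ℕ) :=
  [[1, 0, 6, 9, 12, 15, 2, 13, 22, 3, 25, 27, 4, 7, 33, 5, 36, 38, 40, 43, 41, 47, 8, 50, 35, 10, 44, 11, 59, 61, 64, 62, 68, 14, 71, 24, 16, 65, 17, 80, 18, 20, 75, 19, 26, 88, 77, 21, 81, 73, 23, 72, 70, 79, 63, 89, 67, 78, 74, 28, 69, 29, 31, 54, 30, 37, 104, 56, 32, 60, 52, 34, 51, 49, 58, 42, 105, 46, 57, 53, 39, 48, 114, 116, 115, 109, 102, 108, 45, 55, 106, 117, 103, 101, 120, 119, 112, 118, 121, 123, 122, 93, 86, 92, 66, 76, 90, 124, 87, 85, 127, 126, 96, 125, 82, 84, 83, 91, 97, 95, 94, 98, 100, 99, 107, 113, 111, 110],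
   [2, 4, 7, 10, 13, 16, 18, 20, 15, 19, 26, 28, 29, 31, 9, 30, 37, 39, 41, 44, 35, 43, 32, 51, 52, 54, 56, 55, 60, 62, 65, 24, 64, 21, 72, 73, 75, 77, 76, 81, 82, 84, 22, 83, 87, 27, 68, 85, 71, 61, 17, 80, 90, 93, 67, 69, 74, 89, 91, 96, 66, 98, 100, 33, 99, 103, 38, 47, 101, 50, 40, 11, 59, 106, 109, 46, 48, 53, 105, 107, 112, 45, 115, 108, 49, 116, 34, 58, 57, 102, 114, 111, 118, 119, 5, 8, 104, 36, 122, 92, 70, 123, 23, 79, 78, 86, 121, 95, 125, 126, 3, 14, 88, 25, 1, 12, 127, 63, 124, 94, 97, 0, 6, 120, 42, 117, 110, 113],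
   [3, 5, 8, 11, 14, 17, 19, 21, 23, 24, 20, 15, 30, 32, 34, 35, 31, 9, 42, 45, 46, 48, 49, 43, 53, 55, 57, 58, 56, 63, 66, 67, 69, 70, 64, 74, 76, 78, 79, 77, 83, 85, 86, 73, 84, 22, 89, 90, 68, 91, 92, 65, 87, 27, 18, 94, 82, 95, 1, 16, 97, 99, 101, 102, 52, 100, 33, 105, 106, 47, 107, 108, 44, 103, 38, 29, 110, 98, 111, 0, 10, 113, 36, 112, 37, 39, 116, 104, 117, 109, 118, 50, 6, 114, 41, 115, 54, 7, 25, 96, 26, 28, 123, 88, 124, 93, 125, 71, 12, 121, 62, 122, 75, 13, 127, 126, 61, 2, 81, 72, 80, 120, 119, 40, 4, 60, 51, 59]]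

def spSwaps : List (List (ℕ × ℕ)) :=
  [[(0, 7), (3, 6)],
   [(0, 2), (1, 2), (2, 6), (3, 4), (4, 7), (5, 7)],
   [(0, 7), (1, 5), (3, 6), (6, 7)]]

/-- A Sylow 2-subgroup of `O₆⁻(2)` as reflection words, with images in `S₈`. -/
def orData : List (List ℕ × List ℕ) :=
  [([], [0, 1, 2, 3, 4, 5, 6, 7]), ([44, 22], [1, 0, 5, 7, 6, 2, 4, 3]), ([33, 18, 17, 10, 7], [1, 6, 3, 7, 0, 4, 2, 5]), ([34, 28, 24], [6, 1, 2, 5, 4, 3, 0, 7]),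
   ([51, 38, 13], [6, 1, 4, 5, 2, 3, 0, 7]), ([40, 28, 14], [1, 6, 3, 7, 0, 2, 4, 5]), ([33, 31, 28], [0, 4, 7, 3, 1, 6, 5, 2]), ([44, 22, 14, 10], [6, 2, 7, 5, 1, 0, 3, 4]),
   ([51, 40, 31, 13], [1, 0, 5, 7, 6, 4, 2, 3]), ([52, 18, 14], [4, 0, 5, 2, 6, 7, 1, 3]), ([57, 14, 13, 7], [2, 6, 3, 4, 0, 7, 1, 5]), ([47, 31, 22, 13, 7], [4, 0, 6, 2, 5, 7, 1, 3]),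
   ([52, 48], [2, 6, 0, 4, 3, 7, 1, 5]), ([57, 48, 14, 7], [0, 1, 4, 3, 2, 5, 6, 7]), ([38, 34, 24], [0, 4, 7, 3, 1, 5, 6, 2]), ([47, 28, 24, 13], [6, 2, 7, 5, 1, 3, 0, 4]),
   ([57, 34, 31, 7], [6, 4, 7, 5, 1, 0, 3, 2]), ([14, 10], [4, 5, 3, 2, 0, 1, 7, 6]), ([51, 38, 14, 10, 7], [2, 3, 5, 4, 6, 1, 7, 0]), ([40, 28, 10], [0, 2, 7, 3, 1, 6, 5, 4]),
   ([57, 34, 28, 7], [0, 1, 2, 3, 4, 6, 5, 7]), ([40, 24, 14], [6, 1, 4, 5, 2, 0, 3, 7]), ([48, 10], [4, 6, 3, 2, 0, 7, 1, 5]), ([34, 33, 24, 7], [5, 4, 7, 6, 1, 3, 0, 2]),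
   ([48, 18, 14], [3, 2, 7, 0, 1, 5, 6, 4]), ([51, 48, 22, 10, 7], [2, 0, 5, 4, 6, 7, 1, 3]), ([51, 14, 10, 7], [4, 6, 0, 2, 3, 7, 1, 5]), ([40, 18, 14, 10], [5, 4, 1, 6, 7, 3, 0, 2]),
   ([57, 34, 7], [3, 2, 1, 0, 7, 5, 6, 4]), ([38, 14, 10], [2, 0, 6, 4, 5, 7, 1, 3]), ([40, 33, 18, 13], [1, 0, 6, 7, 5, 2, 4, 3]), ([34, 14, 10], [1, 6, 0, 7, 3, 4, 2, 5]),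
   ([38, 28], [6, 4, 7, 5, 1, 3, 0, 2]), ([52, 33, 31, 14], [4, 5, 3, 2, 0, 7, 1, 6]), ([24, 14, 10], [2, 3, 5, 4, 6, 7, 1, 0]), ([51, 17, 13], [0, 2, 7, 3, 1, 5, 6, 4]),
   ([52, 47, 17, 14], [4, 6, 3, 2, 0, 1, 7, 5]), ([40, 24, 10], [2, 0, 5, 4, 6, 1, 7, 3]), ([34, 22, 18], [4, 3, 5, 2, 6, 1, 7, 0]), ([47, 24, 17], [5, 7, 2, 6, 4, 0, 3, 1]),
   ([52, 48, 14, 10], [3, 7, 4, 0, 2, 6, 5, 1]), ([57, 48, 13, 7], [2, 5, 3, 4, 0, 1, 7, 6]), ([52, 48, 24], [1, 5, 3, 7, 0, 4, 2, 6]), ([47, 22, 18, 7], [1, 3, 5, 7, 6, 2, 4, 0]),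
   ([33, 24, 7], [6, 1, 2, 5, 4, 0, 3, 7]), ([44, 40, 24], [4, 0, 6, 2, 5, 1, 7, 3]), ([47, 17, 14, 10], [2, 6, 0, 4, 3, 1, 7, 5]), ([44, 18], [0, 1, 4, 3, 2, 6, 5, 7]),
   ([57, 28, 7], [3, 4, 7, 0, 1, 5, 6, 2]), ([38, 22, 18], [7, 5, 3, 1, 0, 2, 4, 6]), ([51, 31, 22, 13], [7, 3, 5, 1, 6, 4, 2, 0]), ([52, 22, 18, 10], [5, 2, 7, 6, 1, 3, 0, 4]),
   ([57, 31, 7], [5, 1, 2, 6, 4, 3, 0, 7]), ([52, 10], [3, 1, 4, 0, 2, 5, 6, 7]), ([51, 24, 17, 13], [6, 4, 1, 5, 7, 3, 0, 2]), ([38, 28, 24], [0, 2, 1, 3, 7, 5, 6, 4]),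
   ([44, 28, 14], [3, 4, 1, 0, 7, 5, 6, 2]), ([57, 34, 14, 13, 7], [7, 5, 0, 1, 3, 2, 4, 6]), ([40, 18], [7, 3, 6, 1, 5, 4, 2, 0]), ([33, 28, 24, 7], [5, 2, 1, 6, 7, 3, 0, 4]),
   ([48, 22, 14], [5, 1, 4, 6, 2, 3, 0, 7]), ([51, 48, 14, 13], [3, 1, 2, 0, 4, 5, 6, 7]), ([57, 44, 28, 13, 7], [1, 6, 0, 7, 3, 2, 4, 5]), ([52, 22, 10], [0, 4, 1, 3, 7, 6, 5, 2]),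
   ([57, 31, 28, 7], [6, 2, 1, 5, 7, 0, 3, 4]), ([22, 18], [1, 0, 6, 7, 5, 4, 2, 3]), ([57, 48, 17, 13, 7], [4, 3, 5, 2, 6, 7, 1, 0]), ([44, 24, 10], [5, 7, 2, 6, 4, 3, 0, 1]),
   ([33, 31], [3, 7, 4, 0, 2, 5, 6, 1]), ([34, 28, 14, 10], [2, 5, 3, 4, 0, 7, 1, 6]), ([51, 17, 14, 10, 7], [1, 5, 3, 7, 0, 2, 4, 6]), ([38, 28, 14, 10], [1, 3, 5, 7, 6, 4, 2, 0]),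
   ([33, 24, 14, 13, 7], [4, 0, 5, 2, 6, 1, 7, 3]), ([38, 34, 28], [5, 1, 2, 6, 4, 0, 3, 7]), ([47, 17], [3, 1, 4, 0, 2, 6, 5, 7]), ([44, 18, 14, 10], [2, 6, 3, 4, 0, 1, 7, 5]),
   ([52, 18, 10], [6, 7, 2, 5, 4, 0, 3, 1]), ([57, 7], [0, 7, 4, 3, 2, 6, 5, 1]), ([51, 13], [3, 7, 2, 0, 4, 6, 5, 1]), ([38], [5, 7, 4, 6, 2, 0, 3, 1]),
   ([47, 38, 28, 13], [5, 2, 7, 6, 1, 0, 3, 4]), ([34], [3, 4, 7, 0, 1, 6, 5, 2]), ([57, 44, 18, 7], [0, 7, 2, 3, 4, 5, 6, 1]), ([24], [6, 7, 4, 5, 2, 3, 0, 1]),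
   ([38, 24, 14, 10], [4, 6, 0, 2, 3, 1, 7, 5]), ([51, 38, 17, 13], [5, 4, 1, 6, 7, 0, 3, 2]), ([28], [3, 2, 1, 0, 7, 6, 5, 4]), ([51, 24, 14, 10, 7], [2, 0, 6, 4, 5, 1, 7, 3]),
   ([47, 44, 28, 10, 7], [7, 6, 3, 1, 0, 2, 4, 5]), ([48, 22, 18, 10], [7, 0, 5, 1, 6, 4, 2, 3]), ([44, 40], [7, 3, 5, 1, 6, 2, 4, 0]), ([47, 28, 14, 10, 7], [7, 5, 3, 1, 0, 4, 2, 6]),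
   ([34, 24, 14, 10], [7, 0, 6, 1, 5, 2, 4, 3]), ([57, 48, 18, 13, 7], [7, 6, 0, 1, 3, 4, 2, 5]), ([47, 28, 13], [0, 4, 1, 3, 7, 5, 6, 2]), ([48, 18, 10], [1, 5, 0, 7, 3, 2, 4, 6]),
   ([47, 44, 22, 7], [1, 3, 6, 7, 5, 4, 2, 0]), ([38, 34], [6, 2, 1, 5, 7, 3, 0, 4]), ([28, 14, 10], [7, 6, 0, 1, 3, 2, 4, 5]), ([57, 44, 17, 7], [7, 0, 6, 1, 5, 4, 2, 3]),
   ([33, 22, 18, 13], [7, 3, 6, 1, 5, 2, 4, 0]), ([44, 28, 10], [7, 5, 0, 1, 3, 4, 2, 6]), ([33, 31, 14, 10], [2, 5, 0, 4, 3, 7, 1, 6]), ([44, 24, 14], [4, 3, 6, 2, 5, 7, 1, 0]),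
   ([57, 18, 17, 7], [7, 0, 5, 1, 6, 2, 4, 3]), ([52, 22, 14], [7, 6, 3, 1, 0, 4, 2, 5]), ([48, 28, 24, 10], [6, 4, 1, 5, 7, 0, 3, 2]), ([51, 48, 10, 7], [4, 5, 0, 2, 3, 1, 7, 6]),
   ([48, 22, 10], [2, 3, 6, 4, 5, 1, 7, 0]), ([34, 33, 31], [0, 2, 1, 3, 7, 6, 5, 4]), ([47, 38, 17], [6, 7, 2, 5, 4, 3, 0, 1]), ([34, 28], [0, 7, 4, 3, 2, 5, 6, 1]),
   ([40, 22], [3, 7, 2, 0, 4, 5, 6, 1]), ([57, 34, 31, 28, 7], [5, 7, 4, 6, 2, 3, 0, 1]), ([48, 14], [0, 7, 2, 3, 4, 6, 5, 1]), ([34, 33, 28, 24, 7], [6, 7, 4, 5, 2, 0, 3, 1]),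
   ([38, 24], [3, 1, 2, 0, 4, 6, 5, 7]), ([51, 24, 13], [5, 1, 4, 6, 2, 0, 3, 7]), ([28, 24], [5, 4, 7, 6, 1, 0, 3, 2]), ([57, 44, 28, 14, 7], [3, 2, 7, 0, 1, 6, 5, 4]),
   ([57, 48, 18, 14, 7], [3, 4, 1, 0, 7, 6, 5, 2]), ([34, 24], [5, 2, 1, 6, 7, 0, 3, 4]), ([52, 28, 24, 10], [1, 3, 6, 7, 5, 2, 4, 0]), ([57, 28, 14, 13, 7], [1, 5, 0, 7, 3, 4, 2, 6]),
   ([40, 22, 14, 10], [4, 5, 0, 2, 3, 7, 1, 6]), ([51, 40, 24, 10, 7], [2, 3, 6, 4, 5, 7, 1, 0]), ([57, 31, 14, 13, 7], [4, 3, 6, 2, 5, 1, 7, 0]), ([52, 14], [2, 5, 0, 4, 3, 1, 7, 6])]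

def orGens : List ℕ := [1, 2, 3]

def orParent : List (ℕ × ℕ) :=
  [(0, 0), (0, 0), (1, 0), (2, 0), (1, 1), (2, 1), (0, 2), (1, 2), (2, 2), (0, 3), (1, 3), (0, 4),
   (1, 4), (2, 4), (0, 5), (1, 5), (2, 6), (0, 7), (1, 7), (2, 7), (0, 8), (1, 8), (2, 9), (0, 10),
   (1, 10), (2, 10), (2, 11), (0, 12), (1, 12), (2, 12), (0, 13), (1, 13), (2, 14), (0, 15), (1, 15), (2, 15),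
   (0, 16), (1, 16), (2, 17), (0, 18), (1, 18), (2, 18), (0, 19), (1, 19), (2, 20), (0, 21), (1, 21), (2, 21),
   (2, 23), (0, 24), (1, 24), (2, 24), (0, 25), (1, 25), (0, 26), (1, 26), (2, 27), (0, 28), (1, 28), (2, 28),
   (0, 29), (1, 29), (2, 30), (0, 31), (1, 31), (2, 31), (2, 33), (0, 34), (1, 34), (2, 34), (0, 35), (1, 35),
   (2, 36), (0, 37), (1, 37), (2, 37), (0, 38), (1, 38), (2, 39), (2, 40), (0, 41), (1, 41), (0, 43), (1, 43),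
   (2, 45), (0, 46), (1, 46), (2, 46), (0, 48), (1, 48), (2, 49), (2, 50), (0, 53), (1, 53), (2, 54), (0, 55),
   (1, 55), (2, 55), (0, 56), (1, 56), (2, 57), (2, 58), (0, 59), (1, 59), (0, 61), (1, 61), (2, 63), (0, 64),
   (1, 64), (2, 64), (0, 66), (1, 66), (2, 67), (2, 68), (0, 71), (1, 71), (2, 73), (2, 74), (0, 75), (1, 75),
   (2, 85), (2, 86), (2, 95), (2, 96), (0, 97), (1, 97), (2, 107), (2, 108)]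

def orStep : List (List ℕ) :=
  [[1, 0, 6, 9, 11, 14, 2, 17, 20, 3, 23, 4, 27, 30, 5, 33, 36, 7, 39, 42, 8, 45, 32, 10, 49, 52, 54, 12, 57, 60, 13, 63, 22, 15, 67, 70, 16, 73, 76, 18, 58, 80, 19, 82, 72, 21, 85, 65, 88, 24, 78, 69, 25, 92, 26, 95, 98, 28, 40, 102, 29, 104, 94, 31, 107, 47, 110, 34, 100, 51, 35, 114, 44, 37, 99, 118, 38, 96, 50, 108, 41, 105, 43, 103, 106, 46, 101, 117, 48, 116, 112, 119, 53, 120, 62, 55, 77, 124, 56, 74, 68, 86, 59, 83, 61, 81, 84, 64, 79, 123, 66, 122, 90, 125, 71, 126, 89, 87, 75, 91, 93, 127, 111, 109, 97, 113, 115, 121],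
   [2, 4, 7, 10, 12, 15, 1, 18, 21, 13, 24, 0, 28, 31, 8, 34, 37, 6, 40, 43, 5, 46, 35, 9, 50, 53, 55, 11, 58, 61, 3, 64, 25, 14, 68, 71, 19, 74, 77, 17, 57, 81, 16, 83, 75, 20, 86, 62, 89, 23, 79, 66, 22, 93, 29, 96, 99, 27, 39, 103, 26, 105, 97, 30, 108, 44, 111, 33, 101, 48, 32, 115, 47, 36, 98, 119, 41, 95, 49, 107, 38, 104, 42, 102, 109, 45, 100, 116, 51, 117, 113, 118, 52, 121, 65, 54, 76, 125, 59, 73, 67, 85, 56, 82, 60, 80, 87, 63, 78, 122, 69, 123, 91, 124, 70, 127, 88, 84, 72, 90, 92, 126, 110, 106, 94, 112, 114, 120],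
   [3, 5, 8, 0, 13, 1, 16, 19, 2, 22, 25, 26, 29, 4, 32, 35, 6, 38, 41, 7, 44, 47, 9, 48, 51, 10, 11, 56, 59, 12, 62, 65, 14, 66, 69, 15, 72, 75, 17, 78, 79, 18, 71, 70, 20, 84, 87, 21, 23, 90, 91, 24, 61, 60, 94, 97, 27, 100, 101, 28, 53, 52, 30, 106, 109, 31, 33, 112, 113, 34, 43, 42, 36, 116, 117, 37, 114, 115, 39, 40, 119, 118, 110, 111, 45, 120, 121, 46, 104, 105, 49, 50, 98, 99, 54, 122, 123, 55, 92, 93, 57, 58, 125, 124, 88, 89, 63, 126, 127, 64, 82, 83, 67, 68, 76, 77, 73, 74, 81, 80, 85, 86, 95, 96, 103, 102, 107, 108]]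

end CfsgLib.SylowEight
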