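import Cfsg.Agent.Lib.SylowEight.Data
import Cfsg.Agent.Lib.U42.Main
import Cfsg.Agent.Lib.H1Small.Cases
import Cfsg.Agent.Lib.OrthOrderBase
import Cfsg.Prelude.Def_Classical

/-!
Sylow 2-subgroups of `A₈`, `PSp₄(3)`, `S₈`, `O₆⁻(2)`.
-/

set_option autoImplicit false
set_option maxRecDepth 100000
set_option Elab.async false

namespace CfsgLib.SylowEight

open Matrix
open CfsgLib.U42 (e m3 mul3L trL jL oneL num I2)
open CfsgLib.H1Small (D6 F2)

/-- Permutations from value lists. -/
noncomputable def toP (l : List ℕ) : Equiv.Perm (Fin 8) :=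
  if h : Function.Bijective fun i : Fin 8 => (Fin.ofNat 8 (l.getD i.val 0)) then Equiv.ofBijective _ h else 1

def wfP (l : List ℕ) : Bool := l.length == 8 && l.all (fun x => Nat.blt x 8) && decide l.Nodup

def compL (a b : List ℕ) : List ℕ := b.map fun x => a.getD x 0

theorem toP_apply {l : List ℕ} (h : wfP l = true) (i : Fin 8) : (toP l i : ℕ) = l.getD i.val 0 := by
  simp only [wfP, Bool.and_eq_true, beq_iff_eq, List.all_eq_true, Nat.blt_eq, decide_eq_true_eq] at h
  obtain ⟨⟨hl, hlt⟩, hnd⟩ := h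
  have hget : ∀ j : Fin 8, l.getD j.val 0 = l[j.val]'(by omega) := fun j =>
    List.getD_eq_getElem _ _ (by omega)
  have hlt' : ∀ j : Fin 8, l.getD j.val 0 < 8 := fun j => by rw [hget]; exact hlt _ (List.getElem_mem _)
  have hinj : Function.Injective fun j : Fin 8 => (Fin.ofNat 8 (l.getD j.val 0)) := by
    intro a b hab
    have := congrArg Fin.val hab
    simp only [Fin.val_ofNat, hget] at this
    have ha := hlt _ (List.getElem_mem (show a.val < l.length by omega))
    have hb := hlt _ (List.getElem_mem (show b.val < l.length by omega))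
    rw [Nat.mod_eq_of_lt ha, Nat.mod_eq_of_lt hb] at this
    exact Fin.ext (hnd.getElem_inj_iff.mp this)
  rw [toP, dif_pos (Finite.injective_iff_bijective.mp hinj)]
  exact Nat.mod_eq_of_lt (hlt' i)

theorem toP_comp {a b : List ℕ} (ha : wfP a = true) (hb : wfP b = true) (hc : wfP (compL a b) = true) :
    toP (compL a b) = toP a * toP b := by
  refine Equiv.ext fun i => Fin.ext ?_
  rw [toP_apply hc, Equiv.Perm.mul_apply, toP_apply ha, toP_apply hb]
  have hb' := hb
  simp only [wfP, Bool.and_eq_true, beq_iff_eq] at hb'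
  have hi : i.val < b.length := by omega
  simp [compL, List.getD_eq_getElem?_getD, List.getElem?_eq_getElem hi]

theorem toP_one : toP (List.range 8) = 1 := by
  refine Equiv.ext fun i => Fin.ext ?_
  rw [toP_apply (by decide +kernel)]
  simp [List.getD_eq_getElem?_getD, i.isLt]

theorem toP_inj {a b : List ℕ} (ha : wfP a = true) (hb : wfP b = true) (h : toP a = toP b) : a = b := by
  have hf : ∀ i : Fin 8, a.getD i.val 0 = b.getD i.val 0 := fun i => by
    rw [← toP_apply ha, ← toP_apply hb, h]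
  simp only [wfP, Bool.and_eq_true, beq_iff_eq] at ha hb
  refine List.ext_getElem (by omega) fun i hi hi' => ?_
  have := hf ⟨i, by omega⟩
  rwa [List.getD_eq_getElem _ _ hi, List.getD_eq_getElem _ _ hi'] at this

/-- A table closed under left multiplication by some of its members, with parents, is a subgroup. -/
theorem table_subgroup {G : Type*} [Group G] [Finite G] {n r : ℕ} (val : Fin (n + 1) → G) (g : Fin r → Fin (n + 1))
    (h1 : val 0 = 1) (hstep : ∀ k i, ∃ j, val (g k) * val i = val j)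
    (hpar : ∀ i, i ≠ 0 → ∃ k j, j < i ∧ val (g k) * val j = val i) :
    ∀ x, x ∈ Subgroup.closure (Set.range fun k => val (g k)) ↔ ∃ i, val i = x := by
  intro x
  constructor
  · intro hx
    rw [← Subgroup.mem_toSubmonoid, Subgroup.closure_toSubmonoid_of_finite] at hx
    induction hx using Submonoid.closure_induction_left with
    | one => exact ⟨0, h1⟩
    | mul_left y hy z _ ih =>
      obtain ⟨k, rfl⟩ := hy
      obtain ⟨i, rfl⟩ := ih
      obtain ⟨j, hj⟩ := hstep k i
      exact ⟨j, hj.symm⟩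
  · rintro ⟨i, rfl⟩
    induction i using WellFoundedLT.induction with
    | ind i ih =>
      rcases eq_or_ne i 0 with rfl | hi
      · rw [h1]; exact one_mem _
      · obtain ⟨k, j, hj, e⟩ := hpar i hi
        rw [← e]
        exact mul_mem (Subgroup.subset_closure ⟨k, rfl⟩) (ih j hj)

/-- Sylow subgroups isomorphic to given subgroups of the right order. -/
theorem sylow_equiv {G H : Type*} [Group G] [Group H] [Finite G] [Finite H]
    (A : Subgroup G) (B : Subgroup H) (hA : Nat.card A = 2 ^ (Nat.card G).factorization 2)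
    (hB : Nat.card B = 2 ^ (Nat.card H).factorization 2) (e : A ≃* B) (P : Sylow 2 G) (Q : Sylow 2 H) :
    Nonempty (↥(P : Subgroup G) ≃* ↥(Q : Subgroup H)) := by
  haveI : Fact (Nat.Prime 2) := ⟨Nat.prime_two⟩
  exact ⟨(P.equiv (Sylow.ofCard A hA)).trans (e.trans (Q.equiv (Sylow.ofCard B hB)).symm)⟩

theorem factorization_two {N k m : ℕ} (h : N = 2 ^ k * m) (hm : Odd m) : N.factorization 2 = k := by
  have hm0 : m ≠ 0 := by rintro rfl; exact absurd hm (by decide)
  rw [h, Nat.factorization_mul (by positivity) hm0]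
  simp [Nat.factorization_eq_zero_of_not_dvd (fun hd => (Nat.not_even_iff_odd.mpr hm) (even_iff_two_dvd.mpr hd)),
    Nat.prime_two.factorization_self]

/-! ### The symplectic case -/

def spM (i : ℕ) : List ℕ := (spData.getD i (oneL, [])).1
def spP (i : ℕ) : List ℕ := (spData.getD i (oneL, [])).2

theorem sp_basic : spM 0 = oneL ∧ spP 0 = List.range 8 ∧ spData.length = 128 ∧
    ((List.range 128).all fun i => wfP (spP i) &&
      mul3L (mul3L (spM i) jL) (trL (spM i)) == jL) = true := by decide +kernel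

theorem sp_step : ((List.range 3).all fun k => (List.range 128).all fun i =>
    let g := spGens.getD k 0
    let j := (spStep.getD k []).getD i 0
    Nat.blt g 128 && Nat.blt j 128 && mul3L (spM g) (spM i) == spM j && compL (spP g) (spP i) == spP j) = true := by
  decide +kernel

theorem sp_par : ((List.range 128).all fun i => i == 0 ||
    (let q := spParent.getD i (0, 0)
     Nat.blt q.1 3 && Nat.blt q.2 i && (spStep.getD q.1 []).getD q.2 0 == i)) = true := by
  decide +kernel

/-- Entries are reduced, distinct elements have distinct matrices, and the permutation is trivial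
exactly for the two scalars. -/
theorem sp_kernel : (spData.map Prod.fst).Nodup ∧ ((List.range 128).all fun i =>
    (spM i).length == 16 && (spM i).all (fun x => Nat.blt x 3) &&
      ((spP i == List.range 8) == (spM i == oneL || spM i == oneL.map fun x => 2 * x % 3))) = true := by
  decide +kernel

theorem sp_swaps : ((List.range 3).all fun k =>
    (spSwaps.getD k []).length % 2 == 0 &&
      (spSwaps.getD k []).all fun p => Nat.blt p.1 8 && Nat.blt p.2 8 && !(p.1 == p.2)) = true := by
  decide +kernel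

/-- The product of transpositions. -/
def swapsP (l : List (ℕ × ℕ)) : Equiv.Perm (Fin 8) :=
  (l.map fun p => Equiv.swap (Fin.ofNat 8 p.1) (Fin.ofNat 8 p.2)).prod

theorem sp_swaps_eq : ∀ k : Fin 3, ∀ i : Fin 8,
    (swapsP (spSwaps.getD k.val []) i).val = (spP (spGens.getD k.val 0)).getD i.val 0 := by
  decide +kernel

theorem sylow_psp {K : Type} [Field K] [Fintype K] (hK : Fintype.card K = 3)
    (P : Sylow 2 ↥(alternatingGroup (Fin 8))) (Q : Sylow 2 (Cfsg.PSp 2 K)) :
    Nonempty (↥(P : Subgroup ↥(alternatingGroup (Fin 8))) ≃* ↥(Q : Subgroup (Cfsg.PSp 2 K))) := by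
  classical
  haveI : Fact (Nat.Prime 3) := ⟨Nat.prime_three⟩
  haveI : CharP K 3 := charP_of_card_eq_prime_pow (f := 1) (by rw [hK]; norm_num)
  obtain ⟨hM0, hP0, hlen, hok⟩ := sp_basic
  have hok' : ∀ i : Fin 128, wfP (spP i) = true ∧ mul3L (mul3L (spM i) jL) (trL (spM i)) = jL := fun i => by
    have := List.all_eq_true.mp hok i.val (List.mem_range.mpr i.2)
    simpa only [Bool.and_eq_true, beq_iff_eq] using this
  let val : Fin (127 + 1) → Matrix.symplecticGroup (Fin 2) K × Equiv.Perm (Fin 8) := fun i =>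
    (⟨m3 (spM i), SymplecticGroup.mem_iff.mpr (by
      rw [← CfsgLib.U42.m3_J, ← CfsgLib.U42.m3_tr, ← CfsgLib.U42.m3_mul, ← CfsgLib.U42.m3_mul,
        (hok' i).2])⟩, toP (spP i))
  have hstep' : ∀ (k : Fin 3) (i : Fin 128), ∃ (hg : spGens.getD k.val 0 < 128) (j : Fin 128),
      j.val = (spStep.getD k.val []).getD i.val 0 ∧ val ⟨_, hg⟩ * val i = val j := by
    intro k i
    have h := List.all_eq_true.mp (List.all_eq_true.mp sp_step k.val (List.mem_range.mpr k.2)) i.val
      (List.mem_range.mpr i.2)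
    simp only [Bool.and_eq_true, beq_iff_eq, Nat.blt_eq] at h
    obtain ⟨⟨⟨hg, hj⟩, hm⟩, hp⟩ := h
    refine ⟨hg, ⟨_, hj⟩, rfl, Prod.ext (Subtype.ext ?_) ?_⟩
    · show m3 _ * m3 _ = m3 _
      rw [← CfsgLib.U42.m3_mul, hm]
    · show toP _ * toP _ = toP _
      rw [← toP_comp (hok' ⟨_, hg⟩).1 (hok' i).1 (by rw [hp]; exact (hok' ⟨_, hj⟩).1), hp]
  let g : Fin 3 → Fin (127 + 1) := fun k => ⟨spGens.getD k.val 0, (hstep' k 0).1⟩
  have hval0 : val 0 = 1 := Prod.ext (Subtype.ext (by
      show m3 (spM 0) = _; rw [hM0, CfsgLib.U42.m3_one]; rfl)) (by show toP (spP 0) = _; rw [hP0, toP_one]; rfl)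
  have hpar : ∀ i : Fin (127 + 1), i ≠ 0 → ∃ k j, j < i ∧ val (g k) * val j = val i := by
    intro i hi
    have h := List.all_eq_true.mp sp_par i.val (List.mem_range.mpr i.2)
    simp only [Bool.or_eq_true, beq_iff_eq, Bool.and_eq_true, Nat.blt_eq] at h
    rcases h with h | ⟨⟨hk, hlt⟩, he⟩
    · exact absurd (Fin.ext h) hi
    · obtain ⟨hg, j, hj, e⟩ := hstep' ⟨_, hk⟩ ⟨_, lt_trans hlt i.2⟩
      refine ⟨⟨_, hk⟩, ⟨_, lt_trans hlt i.2⟩, hlt, ?_⟩
      exact e.trans (congrArg val (Fin.ext (hj.trans he)))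
  have hS := table_subgroup val g hval0 (fun k i => ⟨(hstep' k i).2.choose, (hstep' k i).2.choose_spec.2⟩) hpar
  set S := Subgroup.closure (Set.range fun k => val (g k)) with hSdef
  have hker : ∀ i : Fin 128, (spM i).length = 16 ∧ (∀ x ∈ spM i, x < 3) ∧
      (spP i = List.range 8 ↔ spM i = oneL ∨ spM i = oneL.map fun x => 2 * x % 3) := fun i => by
    have h := List.all_eq_true.mp sp_kernel.2 i.val (List.mem_range.mpr i.2)
    simp only [Bool.and_eq_true, beq_iff_eq, List.all_eq_true, Nat.blt_eq] at h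
    refine ⟨h.1.1, h.1.2, ?_⟩
    rw [← Bool.coe_iff_coe] at *
    simp at h
    exact h.2
  have hm3inj : ∀ A B : List ℕ, A.length = 16 → B.length = 16 → (∀ x ∈ A, x < 3) → (∀ x ∈ B, x < 3) →
      (m3 A : Matrix I2 I2 K) = m3 B → A = B := by
    intro A B hA hB hA3 hB3 h
    refine List.ext_getElem (by omega) fun k hk hk' => ?_
    have hidx : ∀ a < 4, ∃ i : I2, num i = a := by decide
    obtain ⟨i, hi⟩ := hidx (k / 4) (by omega)
    obtain ⟨j, hj⟩ := hidx (k % 4) (by omega)
    have h' := congrFun (congrFun h i) j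
    simp only [m3, Matrix.of_apply, e, hi, hj, show 4 * (k / 4) + k % 4 = k by omega,
      List.getD_eq_getElem _ _ hk, List.getD_eq_getElem _ _ hk'] at h'
    rw [CharP.natCast_eq_natCast K 3] at h'
    have := hA3 _ (List.getElem_mem hk)
    have := hB3 _ (List.getElem_mem hk')
    unfold Nat.ModEq at h'
    omega
  have hvinj : Function.Injective val := by
    intro a b h
    have h1 := hm3inj _ _ (hker a).1 (hker b).1 (hker a).2.1 (hker b).2.1 (congrArg (fun p => (p.1.1 : Matrix I2 I2 K)) h)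
    have ha : a.val < spData.length := by rw [hlen]; exact a.2
    have hb : b.val < spData.length := by rw [hlen]; exact b.2
    refine Fin.ext ((sp_kernel.1.getElem_inj_iff (hi := by simpa using ha) (hj := by simpa using hb)).mp ?_)
    simp only [spM, List.getD_eq_getElem _ _ ha, List.getD_eq_getElem _ _ hb] at h1
    simpa using h1
  have hScard : Nat.card S = 128 := by
    have hb : Function.Bijective (fun i : Fin (127 + 1) => (⟨val i, (hS _).mpr ⟨i, rfl⟩⟩ : S)) :=
      ⟨fun a b h => hvinj (congrArg Subtype.val h), fun x => by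
        obtain ⟨i, hi⟩ := (hS x.1).mp x.2; exact ⟨i, Subtype.ext hi⟩⟩
    rw [← Nat.card_eq_of_bijective _ hb, Nat.card_fin]
  set Z := Subgroup.center (Matrix.symplecticGroup (Fin 2) K) with hZdef
  have hZ : Nat.card Z = 2 := by
    rw [CfsgLib.SympTransvection.card_center (F := K) (m := 2) (by norm_num), hK]; rfl
  let f1 : S →* Cfsg.PSp 2 K := (QuotientGroup.mk' Z).comp ((MonoidHom.fst _ _).comp S.subtype)
  let f2 : S →* Equiv.Perm (Fin 8) := (MonoidHom.snd _ _).comp S.subtype
  have hm2 : (m3 (oneL.map fun x => 2 * x % 3) : Matrix I2 I2 K) = -1 := by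
    ext i j
    rcases i with i | i <;> rcases j with j | j <;> fin_cases i <;> fin_cases j <;>
      simp [m3, e, num, oneL, -Nat.cast_ofNat, CfsgLib.U42.two_eq]
  have hneg : (-1 : Matrix I2 I2 K) ∈ Matrix.symplecticGroup (Fin 2) K :=
    SymplecticGroup.mem_iff.mpr (by simp)
  let nu : Matrix.symplecticGroup (Fin 2) K := ⟨-1, hneg⟩
  have hnu : nu ∈ Z := Subgroup.mem_center_iff.mpr fun x => Subtype.ext (by
    show x.1 * (-1) = (-1) * x.1
    simp)
  have hnu1 : nu ≠ 1 := by
    intro h
    have h' := congrFun (congrFun (congrArg Subtype.val h) (.inl 0)) (.inl 0)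
    change (-1 : Matrix I2 I2 K) (.inl 0) (.inl 0) = (1 : Matrix I2 I2 K) (.inl 0) (.inl 0) at h'
    simp at h'
    have h2 : ((2 : ℕ) : K) = 0 := by push_cast; linear_combination -h'
    rw [CharP.cast_eq_zero_iff K 3] at h2
    norm_num at h2
  have hZmem : ∀ z, z ∈ Z ↔ z = 1 ∨ z = nu := by
    intro z
    constructor
    · intro hz
      obtain ⟨x, y, hxy, huniv⟩ := Nat.card_eq_two_iff.mp hZ
      have hm : ∀ w : Z, w = x ∨ w = y := fun w => by
        have := huniv.ge (Set.mem_univ w); simpa using this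
      by_contra hc
      push Not at hc
      have e1 : (⟨1, one_mem Z⟩ : Z) ≠ ⟨nu, hnu⟩ := fun h => hnu1 (congrArg Subtype.val h).symm
      have e2 : (⟨z, hz⟩ : Z) ≠ ⟨1, one_mem Z⟩ := fun h => hc.1 (congrArg Subtype.val h)
      have e3 : (⟨z, hz⟩ : Z) ≠ ⟨nu, hnu⟩ := fun h => hc.2 (congrArg Subtype.val h)
      rcases hm ⟨z, hz⟩ with a | a <;> rcases hm ⟨1, one_mem Z⟩ with b | b <;>
        rcases hm ⟨nu, hnu⟩ with c | c <;> simp_all
    · rintro (rfl | rfl)
      · exact one_mem Z
      · exact hnu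
  have hk : f1.ker = f2.ker := by
    ext ⟨p, hp⟩
    obtain ⟨i, rfl⟩ := (hS p).mp hp
    show QuotientGroup.mk' Z (val i).1 = 1 ↔ toP (spP i) = 1
    rw [show QuotientGroup.mk' Z (val i).1 = 1 ↔ (val i).1 ∈ Z from QuotientGroup.eq_one_iff _, hZmem,
      ← toP_one]
    constructor
    · intro h
      rw [(hker i).2.2.mpr]
      rcases h with h | h
      · left
        refine hm3inj _ _ (hker i).1 rfl (hker i).2.1 (by decide) ?_
        rw [CfsgLib.U42.m3_one]; exact congrArg Subtype.val h
      · right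
        refine hm3inj _ _ (hker i).1 rfl (hker i).2.1 (by decide) ?_
        rw [hm2]; exact congrArg Subtype.val h
    · intro h
      rcases (hker i).2.2.mp (toP_inj (hok' i).1 (by decide +kernel) h) with h1 | h1
      · exact Or.inl (Subtype.ext (by show m3 (spM i) = _; rw [h1, CfsgLib.U42.m3_one] <;> rfl))
      · exact Or.inr (Subtype.ext (by show m3 (spM i) = _; rw [h1, hm2] <;> rfl))
  have hkcard : Nat.card f2.ker = 2 := by
    rw [← hk]
    obtain ⟨i, hi⟩ : ∃ i : Fin 128, spM i = oneL.map fun x => 2 * x % 3 := by decide +kernel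
    let n0 : S := ⟨val i, (hS _).mpr ⟨i, rfl⟩⟩
    have hv : (val i).1 = nu := Subtype.ext (by show m3 (spM i) = _; rw [hi, hm2] <;> rfl)
    have hinj : Function.Injective ((MonoidHom.fst _ _).comp S.subtype) := by
      rintro ⟨p, hp⟩ ⟨q, hq⟩ h
      obtain ⟨a, rfl⟩ := (hS p).mp hp
      obtain ⟨b, rfl⟩ := (hS q).mp hq
      have h1 := hm3inj _ _ (hker a).1 (hker b).1 (hker a).2.1 (hker b).2.1 (congrArg Subtype.val h)
      have ha : a.val < spData.length := by rw [hlen]; exact a.2
      have hb : b.val < spData.length := by rw [hlen]; exact b.2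
      have : a = b := Fin.ext ((sp_kernel.1.getElem_inj_iff (hi := by simpa using ha) (hj := by simpa using hb)).mp (by
        simp only [spM, List.getD_eq_getElem _ _ ha, List.getD_eq_getElem _ _ hb] at h1
        simpa using h1))
      subst this
      rfl
    refine (Nat.card_eq_of_bijective (fun x : f1.ker =>
      (⟨(x.1.1).1, (QuotientGroup.eq_one_iff _).mp x.2⟩ : Z)) ⟨fun a b h => ?_, fun z => ?_⟩).trans hZ
    · exact Subtype.ext (hinj (congrArg Subtype.val h))
    · rcases (hZmem z.1).mp z.2 with h | h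
      · exact ⟨1, Subtype.ext h.symm⟩
      · refine ⟨⟨n0, ?_⟩, Subtype.ext (hv.trans h.symm)⟩
        show QuotientGroup.mk' Z (val i).1 = 1
        rw [hv]; exact (QuotientGroup.eq_one_iff _).mpr hnu
  have halt : f2.range ≤ alternatingGroup (Fin 8) := by
    rw [MonoidHom.range_comp, Subgroup.range_subtype, hSdef, MonoidHom.map_closure, Subgroup.closure_le]
    rintro x ⟨y, ⟨k, rfl⟩, rfl⟩
    show toP (spP (g k)) ∈ alternatingGroup (Fin 8)
    have he : toP (spP (g k)) = swapsP (spSwaps.getD k.val []) := Equiv.ext fun i => Fin.ext (by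
      rw [toP_apply (hok' (g k)).1, sp_swaps_eq k i])
    have h := List.all_eq_true.mp sp_swaps k.val (List.mem_range.mpr k.2)
    simp only [Bool.and_eq_true, beq_iff_eq, List.all_eq_true, Nat.blt_eq, Bool.not_eq_true',
      beq_eq_false_iff_ne] at h
    rw [he, Equiv.Perm.mem_alternatingGroup, swapsP]
    rw [Equiv.Perm.sign_prod_list_swap, List.length_map]
    · exact Even.neg_one_pow (Nat.even_iff.mpr h.1)
    · intro σ hσ
      obtain ⟨p, hp, rfl⟩ := List.mem_map.mp hσ
      obtain ⟨⟨h1, h2⟩, h3⟩ := h.2 p hp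
      refine ⟨_, _, fun h' => h3 ?_, rfl⟩
      have := congrArg Fin.val h'
      simpa [Fin.val_ofNat, Nat.mod_eq_of_lt h1, Nat.mod_eq_of_lt h2] using this
  have hcard : Nat.card f2.range = 64 ∧ Nat.card f1.range = 64 := by
    have h1 := Subgroup.card_eq_card_quotient_mul_card_subgroup f1.ker
    have h2 := Subgroup.card_eq_card_quotient_mul_card_subgroup f2.ker
    rw [Nat.card_congr (QuotientGroup.quotientKerEquivRange _).toEquiv, hScard, hk, hkcard] at h1
    rw [Nat.card_congr (QuotientGroup.quotientKerEquivRange _).toEquiv, hScard, hkcard] at h2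
    omega
  let A : Subgroup ↥(alternatingGroup (Fin 8)) := f2.range.subgroupOf (alternatingGroup (Fin 8))
  let e2 : A ≃* f2.range := Subgroup.subgroupOfEquivOfLe halt
  let eA : A ≃* f1.range :=
    e2.trans ((QuotientGroup.quotientKerEquivRange f2).symm.trans
      ((QuotientGroup.quotientMulEquivOfEq hk.symm).trans (QuotientGroup.quotientKerEquivRange f1)))
  refine sylow_equiv A f1.range ?_ ?_ eA P Q
  · rw [Nat.card_congr e2.toEquiv, hcard.1]
    have hc : Nat.card (alternatingGroup (Fin 8)) = 20160 := by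
      rw [nat_card_alternatingGroup, Nat.card_fin]; rfl
    rw [factorization_two (hc.trans (show 20160 = 2 ^ 6 * 315 by norm_num)) (by decide)]
    rfl
  · rw [hcard.2]
    have hSp : Nat.card (Matrix.symplecticGroup (Fin 2) K) = 51840 := by
      rw [Cfsg.Agent.S0245.result hK 2]
      decide +kernel
    have hc : Nat.card (Cfsg.PSp 2 K) = 25920 := by
      have h : Nat.card (Matrix.symplecticGroup (Fin 2) K) = Nat.card (Cfsg.PSp 2 K) * Nat.card Z :=
        Subgroup.card_eq_card_quotient_mul_card_subgroup Z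
      rw [hSp, hZ] at h
      omega
    rw [factorization_two (hc.trans (show 25920 = 2 ^ 6 * 405 by norm_num)) (by decide)]
    rfl

/-! ### The orthogonal case -/

def orW (i : ℕ) : List ℕ := (orData.getD i ([], [])).1
def orP (i : ℕ) : List ℕ := (orData.getD i ([], [])).2

theorem or_basic : orW 0 = [] ∧ orP 0 = List.range 8 ∧ orData.length = 128 ∧
    ((List.range 128).all fun i => wfP (orP i)) = true ∧ (orData.map Prod.snd).Nodup := by decide +kernel

theorem or_step : ((List.range 3).all fun k => (List.range 128).all fun i =>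
    let g := orGens.getD k 0
    let j := (orStep.getD k []).getD i 0
    Nat.blt g 128 && Nat.blt j 128 && D6.same (orW g ++ orW i) (orW j) &&
      compL (orP g) (orP i) == orP j) = true := by
  decide +kernel

theorem or_par : ((List.range 128).all fun i => i == 0 ||
    (let q := orParent.getD i (0, 0)
     Nat.blt q.1 3 && Nat.blt q.2 i && (orStep.getD q.1 []).getD q.2 0 == i)) = true := by
  decide +kernel

theorem or_distinct : ((List.range 128).map fun i => (List.range 6).map fun b => D6.run (orW i) (2 ^ b)).Nodup := by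
  decide +kernel

theorem zero_or_one : ∀ x : F2, x = 0 ∨ x = 1 := by decide

theorem bin_one : (1 : F2) ^ 2 + 0 * 1 * 1 + 1 * 1 ^ 2 = 0 := by decide

theorem form_transport {K : Type} [Field K] [Fintype K] (hK : Fintype.card K = 2) (a b : K)
    (hab : ∀ z₁ z₂ : K, z₁ ^ 2 + a * z₁ * z₂ + b * z₂ ^ 2 = 0 → z₁ = 0 ∧ z₂ = 0) :
    Nonempty (↥(Cfsg.isometryGroup K (Cfsg.quadFormMinus 2 K a b)) ≃* D6.G) := by
  haveI : Fact (Nat.Prime 2) := ⟨Nat.prime_two⟩
  let e : K ≃+* F2 := FiniteField.ringEquivOfCardEq (by rw [hK, ZMod.card])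
  have h01 : ∀ x : F2, x = 0 ∨ x = 1 := zero_or_one
  have hb : e b = 1 := by
    rcases h01 (e b) with h | h
    · exfalso
      have hb0 : b = 0 := e.map_eq_zero_iff.mp h
      exact one_ne_zero (hab 0 1 (by rw [hb0]; ring)).2
    · exact h
  have ha : e a = 1 := by
    rcases h01 (e a) with h | h
    · exfalso
      have ha0 : a = 0 := e.map_eq_zero_iff.mp h
      have hb1 : b = 1 := e.injective (by rw [hb, map_one])
      refine one_ne_zero (hab 1 1 ?_).1
      refine e.injective ?_
      rw [ha0, hb1]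
      simp only [_root_.map_add, _root_.map_mul, map_pow, map_zero, map_one]
      exact bin_one
    · exact h
  let φ : GL ((Fin 2 ⊕ Fin 2) ⊕ Fin 2) K ≃* GL ((Fin 2 ⊕ Fin 2) ⊕ Fin 2) F2 :=
    Units.mapEquiv e.mapMatrix.toMulEquiv
  have hq : ∀ v, e (Cfsg.quadFormMinus 2 K a b v) = D6.Q (fun i => e (v i)) := by
    intro v
    show _ = Cfsg.quadFormMinus 2 F2 1 1 (fun i => e (v i))
    simp only [Cfsg.quadFormMinus, _root_.map_add, _root_.map_mul, map_pow, map_sum, ha, hb]
  refine ⟨(φ.subgroupMap _).trans (MulEquiv.subgroupCongr ?_)⟩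
  ext g
  constructor
  · rintro ⟨h, hh, rfl⟩ w _
    let v : (Fin 2 ⊕ Fin 2) ⊕ Fin 2 → K := fun i => e.symm (w i)
    have hwv : w = fun i => e (v i) := by funext i; simp [v]
    have h1 : ((φ h : GL _ F2) : Matrix _ _ F2) *ᵥ w = fun i => e ((h.1 *ᵥ v) i) := by
      rw [hwv]; funext i
      exact ((e : K →+* F2).map_mulVec h.1 v i).symm
    show D6.Q (((φ h : GL _ F2) : Matrix _ _ F2) *ᵥ w) = D6.Q w
    rw [h1, ← hq, hwv, ← hq]
    exact congrArg e (hh v v)
  · intro hg
    refine ⟨φ.symm g, fun v _ => e.injective ?_, φ.apply_symm_apply g⟩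
    show e (Cfsg.quadFormMinus 2 K a b ((φ.symm g).1 *ᵥ v)) = e (Cfsg.quadFormMinus 2 K a b v)
    rw [hq, hq]
    have h1 : (fun i => e (((φ.symm g).1 *ᵥ v) i)) = g.1 *ᵥ (fun i => e (v i)) := by
      funext i
      refine ((e : K →+* F2).map_mulVec _ v i).trans ?_
      show (((φ (φ.symm g) : GL _ F2) : Matrix _ _ F2) *ᵥ fun j => e (v j)) i = _
      rw [φ.apply_symm_apply]
    rw [h1]
    exact hg _ (fun i => e (v i))

theorem sylow_orth {K : Type} [Field K] [Fintype K] (hK : Fintype.card K = 2) (a b : K)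
    (hab : ∀ z₁ z₂ : K, z₁ ^ 2 + a * z₁ * z₂ + b * z₂ ^ 2 = 0 → z₁ = 0 ∧ z₂ = 0)
    (P : Sylow 2 (Equiv.Perm (Fin 8)))
    (Q : Sylow 2 ↥(Cfsg.isometryGroup K (Cfsg.quadFormMinus 2 K a b))) :
    Nonempty (↥(P : Subgroup (Equiv.Perm (Fin 8))) ≃*
      ↥(Q : Subgroup ↥(Cfsg.isometryGroup K (Cfsg.quadFormMinus 2 K a b)))) := by
  classical
  obtain ⟨hW0, hP0, hlen, hok, hnd⟩ := or_basic
  have hok' : ∀ i : Fin 128, wfP (orP i) = true := fun i =>
    List.all_eq_true.mp hok i.val (List.mem_range.mpr i.2)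
  obtain ⟨T⟩ := form_transport hK a b hab
  let val : Fin (127 + 1) → ↥(Cfsg.isometryGroup K (Cfsg.quadFormMinus 2 K a b)) × Equiv.Perm (Fin 8) :=
    fun i => (T.symm (D6.P (orW i)), toP (orP i))
  have hstep' : ∀ (k : Fin 3) (i : Fin 128), ∃ (hg : orGens.getD k.val 0 < 128) (j : Fin 128),
      j.val = (orStep.getD k.val []).getD i.val 0 ∧ val ⟨_, hg⟩ * val i = val j := by
    intro k i
    have h := List.all_eq_true.mp (List.all_eq_true.mp or_step k.val (List.mem_range.mpr k.2)) i.val
      (List.mem_range.mpr i.2)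
    simp only [Bool.and_eq_true, beq_iff_eq, Nat.blt_eq] at h
    obtain ⟨⟨⟨hg, hj⟩, hm⟩, hp⟩ := h
    refine ⟨hg, ⟨_, hj⟩, rfl, Prod.ext ?_ ?_⟩
    · show T.symm _ * T.symm _ = T.symm _
      rw [← _root_.map_mul, ← CfsgLib.H1Small.Model.P_append, D6.eq_of_same hm]
    · show toP _ * toP _ = toP _
      rw [← toP_comp (hok' ⟨_, hg⟩) (hok' i) (by rw [hp]; exact hok' ⟨_, hj⟩), hp]
  let g : Fin 3 → Fin (127 + 1) := fun k => ⟨orGens.getD k.val 0, (hstep' k 0).1⟩
  have hval0 : val 0 = 1 := Prod.ext (by show T.symm (D6.P (orW 0)) = _; rw [hW0]; exact map_one _)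
    (by show toP (orP 0) = _; rw [hP0, toP_one]; rfl)
  have hpar : ∀ i : Fin (127 + 1), i ≠ 0 → ∃ k j, j < i ∧ val (g k) * val j = val i := by
    intro i hi
    have h := List.all_eq_true.mp or_par i.val (List.mem_range.mpr i.2)
    simp only [Bool.or_eq_true, beq_iff_eq, Bool.and_eq_true, Nat.blt_eq] at h
    rcases h with h | ⟨⟨hk, hlt⟩, he⟩
    · exact absurd (Fin.ext h) hi
    · obtain ⟨hg, j, hj, e⟩ := hstep' ⟨_, hk⟩ ⟨_, lt_trans hlt i.2⟩
      refine ⟨⟨_, hk⟩, ⟨_, lt_trans hlt i.2⟩, hlt, ?_⟩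
      exact e.trans (congrArg val (Fin.ext (hj.trans he)))
  have hS := table_subgroup val g hval0 (fun k i => ⟨(hstep' k i).2.choose, (hstep' k i).2.choose_spec.2⟩) hpar
  set S := Subgroup.closure (Set.range fun k => val (g k)) with hSdef
  have hi2 : Function.Injective fun i : Fin 128 => toP (orP i) := by
    intro x y h
    have h1 := toP_inj (hok' x) (hok' y) h
    have hx : x.val < orData.length := by rw [hlen]; exact x.2
    have hy : y.val < orData.length := by rw [hlen]; exact y.2
    refine Fin.ext ((hnd.getElem_inj_iff (hi := by simpa using hx) (hj := by simpa using hy)).mp ?_)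
    simp only [orP, List.getD_eq_getElem _ _ hx, List.getD_eq_getElem _ _ hy] at h1
    simpa using h1
  have hi1 : Function.Injective fun i : Fin 128 => T.symm (D6.P (orW i)) := by
    intro x y h
    have h' := T.symm.injective h
    refine Fin.ext ((or_distinct.getElem_inj_iff (hi := by simp) (hj := by simp)).mp ?_)
    simp only [List.getElem_map, List.getElem_range]
    refine List.map_congr_left fun k hk => ?_
    have hk' : k < 6 := List.mem_range.mp hk
    have hlt : 2 ^ k < 2 ^ D6.n := Nat.pow_lt_pow_right (by norm_num) hk'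
    have e1 : D6.T (D6.run (orW x) (2 ^ k)) = D6.T (D6.run (orW y) (2 ^ k)) := by
      rw [← D6.act_P _ hlt, ← D6.act_P _ hlt, h']
    have h0 : D6.T (D6.run (orW x) (2 ^ k) ^^^ D6.run (orW y) (2 ^ k)) = 0 := by
      rw [D6.hxor, e1]; exact ZModModule.add_self _
    exact Nat.xor_eq_zero_iff.mp
      (D6.hzero _ (Nat.xor_lt_two_pow (D6.run_lt _ hlt) (D6.run_lt _ hlt)) h0)
  let f1 : S →* ↥(Cfsg.isometryGroup K (Cfsg.quadFormMinus 2 K a b)) := (MonoidHom.fst _ _).comp S.subtype
  let f2 : S →* Equiv.Perm (Fin 8) := (MonoidHom.snd _ _).comp S.subtype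
  have hf1 : Function.Injective f1 := by
    rintro ⟨p, hp⟩ ⟨q, hq⟩ h
    obtain ⟨x, rfl⟩ := (hS p).mp hp
    obtain ⟨y, rfl⟩ := (hS q).mp hq
    obtain rfl : x = y := hi1 h
    rfl
  have hf2 : Function.Injective f2 := by
    rintro ⟨p, hp⟩ ⟨q, hq⟩ h
    obtain ⟨x, rfl⟩ := (hS p).mp hp
    obtain ⟨y, rfl⟩ := (hS q).mp hq
    obtain rfl : x = y := hi2 h
    rfl
  have hScard : Nat.card S = 128 := by
    have hb : Function.Bijective (fun i : Fin (127 + 1) => (⟨val i, (hS _).mpr ⟨i, rfl⟩⟩ : S)) :=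
      ⟨fun x y h => hi2 (congrArg (fun p : S => p.1.2) h), fun x => by
        obtain ⟨i, hi⟩ := (hS x.1).mp x.2; exact ⟨i, Subtype.ext hi⟩⟩
    rw [← Nat.card_eq_of_bijective _ hb, Nat.card_fin]
  haveI : Finite ↥(Cfsg.isometryGroup K (Cfsg.quadFormMinus 2 K a b)) := inferInstance
  refine sylow_equiv f2.range f1.range ?_ ?_
    ((MonoidHom.ofInjective hf2).symm.trans (MonoidHom.ofInjective hf1)) P Q
  · rw [← Nat.card_congr (MonoidHom.ofInjective hf2).toEquiv, hScard]
    have hc : Nat.card (Equiv.Perm (Fin 8)) = 40320 := by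
      rw [Nat.card_eq_fintype_card, Fintype.card_perm, Fintype.card_fin]; rfl
    rw [factorization_two (hc.trans (show 40320 = 2 ^ 7 * 315 by norm_num)) (by decide)]
    rfl
  · rw [← Nat.card_congr (MonoidHom.ofInjective hf1).toEquiv, hScard]
    have hc : Nat.card ↥(Cfsg.isometryGroup K (Cfsg.quadFormMinus 2 K a b)) = 51840 := by
      have := CfsgLib.OrthOrder.card_O_minus 3 (by norm_num) a b hab
      rw [hK] at this
      exact this.trans (by decide +kernel)
    rw [factorization_two (hc.trans (show 51840 = 2 ^ 7 * 405 by norm_num)) (by decide)]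
    rfl

end CfsgLib.SylowEight
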